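import Groth.Prelude.Def_ParBun2
import Groth.Agent.W7Slope.H1Quot
import Groth.Agent.CurveRR.GlobGen
import Groth.Agent.CurveRR.Cartier
import Groth.Agent.ParHilbLib.Basic
import Groth.Agent.ResDesc.Main

/-!
Restriction to a divisor on a curve: the sequence `E(-D) → E → E|_D`, naturality, and Euler characteristics.
-/

set_option autoImplicit false
set_option linter.style.haveILetI false
set_option linter.unusedSectionVars false
set_option backward.isDefEq.respectTransparency false

universe u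

open CategoryTheory CategoryTheory.Limits AlgebraicGeometry TopologicalSpace Opposite
open Groth.Agent.CohFinite (tmap tmap_tm hhMap isCoh_of_iso)
open TMul (tm)

noncomputable section

namespace Groth.Agent.GPBunLib

variable {X : Scheme.{u}} (I : X.IdealSheafData)

theorem resDMap_tm {E F : X.Modules} (φ : E ⟶ F) {U : X.Opens} (e : Γ(E, U))
    (q : Γ(ClSub.quotMod I, U)) :
    (ParSh.resDMap I φ).app U (tm e q) = tm (φ.app U e) q :=
  KoszTw.tensorMap_tmul φ (𝟙 _) U e q

theorem resDMap_comp {E F G : X.Modules} (φ : E ⟶ F) (ψ : F ⟶ G) :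
    ParSh.resDMap I (φ ≫ ψ) = ParSh.resDMap I φ ≫ ParSh.resDMap I ψ :=
  TMul.hom_ext fun U m n => by
    show (ParSh.resDMap I (φ ≫ ψ)).app U (tm m n) =
      (ParSh.resDMap I ψ).app U ((ParSh.resDMap I φ).app U (tm m n))
    rw [resDMap_tm, resDMap_tm, resDMap_tm]
    rfl

theorem resDMap_id (E : X.Modules) : ParSh.resDMap I (𝟙 E) = 𝟙 (ParSh.resD I E) :=
  KoszTw.tensorMap_id _ _

theorem resDMap_zero (E F : X.Modules) : ParSh.resDMap I (0 : E ⟶ F) = 0 :=
  TMul.hom_ext fun U m n => (resDMap_tm I 0 m n).trans (TMul.zero_tm n)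

/-- `E(-D) → E`. -/
def ιD (E : X.Modules) : CohB1.tensorMod (ClSub.idealMod I) E ⟶ E :=
  tmap (ClSub.idealModι I) E ≫ (TMul.leftUnitIso E).hom

/-- `E → E|_D`. -/
def qD (E : X.Modules) : E ⟶ ParSh.resD I E :=
  (TMul.leftUnitIso E).inv ≫ tmap (ClSub.toSubscheme I) E ≫ (TMul.commIso (ClSub.quotMod I) E).hom

theorem leftUnit_natural {G E : X.Modules} (φ : G ⟶ E) :
    (TMul.leftUnitIso G).hom ≫ φ =
      KoszTw.tensorMap (𝟙 (Coh.structureModule X)) φ ≫ (TMul.leftUnitIso E).hom :=
  TMul.hom_ext fun U r g => by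
    show φ.app U ((TMul.leftUnitIso G).hom.app U (tm r g)) = (TMul.leftUnitIso E).hom.app U
      ((KoszTw.tensorMap (𝟙 (Coh.structureModule X)) φ).app U (tm r g))
    have h : (KoszTw.tensorMap (𝟙 (Coh.structureModule X)) φ).app U (tm r g) = tm r (φ.app U g) :=
      KoszTw.tensorMap_tmul (𝟙 _) φ U r g
    rw [h]
    erw [CurveRR.leftUnitIso_tm G r g, CurveRR.leftUnitIso_tm E r (φ.app U g)]
    exact Scheme.Modules.Hom.app_smul φ (U := U) r g

theorem qD_natural {G E : X.Modules} (φ : G ⟶ E) : qD I G ≫ ParSh.resDMap I φ = φ ≫ qD I E := by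
  suffices h : tmap (ClSub.toSubscheme I) G ≫ (TMul.commIso (ClSub.quotMod I) G).hom ≫ ParSh.resDMap I φ =
      KoszTw.tensorMap (𝟙 (Coh.structureModule X)) φ ≫ tmap (ClSub.toSubscheme I) E ≫
        (TMul.commIso (ClSub.quotMod I) E).hom by
    have h1 : φ ≫ (TMul.leftUnitIso E).inv =
        (TMul.leftUnitIso G).inv ≫ KoszTw.tensorMap (𝟙 (Coh.structureModule X)) φ := by
      rw [Iso.eq_inv_comp, ← Category.assoc, Iso.comp_inv_eq]
      exact leftUnit_natural φ
    rw [qD, qD, ← Category.assoc φ, h1, Category.assoc, Category.assoc, Category.assoc, h]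
  refine TMul.hom_ext fun U r g => ?_
  have h0 : (KoszTw.tensorMap (𝟙 (Coh.structureModule X)) φ).app U (tm r g) = tm r (φ.app U g) :=
    KoszTw.tensorMap_tmul (𝟙 _) φ U r g
  have hl : (tmap (ClSub.toSubscheme I) G ≫ (TMul.commIso (ClSub.quotMod I) G).hom ≫
      ParSh.resDMap I φ).app U (tm r g) = tm (φ.app U g) ((ClSub.toSubscheme I).app U r) := by
    refine Eq.trans ?_ (resDMap_tm I φ g _)
    show (ParSh.resDMap I φ).app U ((TMul.commHom (ClSub.quotMod I) G).app U
      ((tmap (ClSub.toSubscheme I) G).app U (tm r g))) = _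
    rw [tmap_tm, TMul.commHom_tm]
  have hr : (KoszTw.tensorMap (𝟙 (Coh.structureModule X)) φ ≫ tmap (ClSub.toSubscheme I) E ≫
      (TMul.commIso (ClSub.quotMod I) E).hom).app U (tm r g) =
        tm (φ.app U g) ((ClSub.toSubscheme I).app U r) := by
    show (TMul.commHom (ClSub.quotMod I) E).app U ((tmap (ClSub.toSubscheme I) E).app U
      ((KoszTw.tensorMap (𝟙 (Coh.structureModule X)) φ).app U (tm r g))) = _
    rw [h0, tmap_tm, TMul.commHom_tm]
  exact hl.trans hr.symm

theorem ιD_natural {G E : X.Modules} (φ : G ⟶ E) :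
    KoszTw.tensorMap (𝟙 (ClSub.idealMod I)) φ ≫ ιD I E = ιD I G ≫ φ := by
  rw [ιD, ιD, Category.assoc (tmap _ G), leftUnit_natural φ]
  simp only [← Category.assoc]
  congr 1
  refine TMul.hom_ext fun U r g => ?_
  show (tmap (ClSub.idealModι I) E).app U ((KoszTw.tensorMap (𝟙 (ClSub.idealMod I)) φ).app U (tm r g)) =
    (KoszTw.tensorMap (𝟙 (Coh.structureModule X)) φ).app U ((tmap (ClSub.idealModι I) G).app U (tm r g))
  have h : (KoszTw.tensorMap (𝟙 (ClSub.idealMod I)) φ).app U (tm r g) = tm r (φ.app U g) :=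
    KoszTw.tensorMap_tmul (𝟙 _) φ U r g
  rw [h, tmap_tm, tmap_tm]
  exact (KoszTw.tensorMap_tmul (𝟙 (Coh.structureModule X)) φ U ((ClSub.idealModι I).app U r) g).symm

theorem ιD_qD (E : X.Modules) : ιD I E ≫ qD I E = 0 := by
  rw [ιD, qD]
  simp only [Category.assoc, Iso.hom_inv_id_assoc]
  rw [← Category.assoc, ← Groth.Agent.CohFinite.tmap_comp,
    show ClSub.idealModι I ≫ ClSub.toSubscheme I = 0 from kernel.condition _,
    Groth.Agent.CohFinite.tmap_zero, zero_comp]

theorem shortExact_D {n : ℕ} {E : X.Modules} (hE : FlatMod.IsFinLocFreeOfRank n E) :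
    (ShortComplex.mk (ιD I E) (qD I E) (ιD_qD I E)).ShortExact := by
  have h := CurveRR.shortExact_tmapR (CurveRR.hasFrames_of_rank hE) (CurveRR.ideal_shortExact I)
  refine ShortComplex.shortExact_of_iso (ShortComplex.isoMk
    (S₁ := ShortComplex.mk (tmap (ClSub.idealModι I) E) (tmap (ClSub.toSubscheme I) E) (by
      rw [← Groth.Agent.CohFinite.tmap_comp,
        show ClSub.idealModι I ≫ ClSub.toSubscheme I = 0 from kernel.condition _,
        Groth.Agent.CohFinite.tmap_zero]))
    (S₂ := ShortComplex.mk (ιD I E) (qD I E) (ιD_qD I E)) (Iso.refl _) (TMul.leftUnitIso E)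
    (TMul.commIso (ClSub.quotMod I) E) ?_ ?_) h
  · exact Category.id_comp _
  · exact (Iso.hom_inv_id_assoc (TMul.leftUnitIso E) _)

theorem isCoh_resD [IsLocallyNoetherian X] {E : X.Modules} (hE : Coh.IsCoh E) : Coh.IsCoh (ParSh.resD I E) :=
  CurveRR.isCoh_tensor' hE (CurveRR.isCoh_idealMod I).2

theorem support_resD (E : X.Modules) : CohB1.support (ParSh.resD I E) ⊆ (I.support : Set X) := fun x hx => by
  by_contra hxI
  haveI : Epi (TMul.commIso (ClSub.quotMod I) E).hom := inferInstance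
  have hx' := ParHilbLib.support_of_epi (TMul.commIso (ClSub.quotMod I) E).hom hx
  refine (Groth.Agent.QC.notMem_support_iff x).mpr (fun U hxU s => ?_) hx'
  refine ⟨U ⊓ ⟨(I.support : Set X)ᶜ, I.support.isClosed.isOpen_compl⟩, inf_le_left, ⟨hxU, hxI⟩, ?_⟩
  exact CurveRR.suppIn_tensor (CurveRR.suppIn_of_subset (CurveRR.support_quotMod I)) E _ _ fun y hy => hy.2

variable (k : Type u) [Field k] [X.Over (Spec (CommRingCat.of k))]

theorem fibDMap_eq {E F : X.Modules} (φ : E ⟶ F) (x : ParSh.fibD X I E) :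
    ParSh.fibDMap k X I φ x = hhMap k (ParSh.resDMap I φ) 0 x := rfl

theorem fibDMap_comp {E F G : X.Modules} (φ : E ⟶ F) (ψ : F ⟶ G) (x : ParSh.fibD X I E) :
    ParSh.fibDMap k X I (φ ≫ ψ) x = ParSh.fibDMap k X I ψ (ParSh.fibDMap k X I φ x) := by
  rw [fibDMap_eq, resDMap_comp]
  exact Groth.Agent.CohFinite.hhMap_comp k _ _ 0 x

theorem fibDMap_zero {E F : X.Modules} (x : ParSh.fibD X I E) :
    ParSh.fibDMap k X I (0 : E ⟶ F) x = 0 := by
  rw [fibDMap_eq, resDMap_zero]
  exact W7Slope.hhMap_zero 0 x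

theorem fibDMap_id (E : X.Modules) (x : ParSh.fibD X I E) : ParSh.fibDMap k X I (𝟙 E) x = x := by
  rw [fibDMap_eq, resDMap_id]
  exact Groth.Agent.CohFinite.hhMap_id k _ 0 x

theorem bijective_fibDMap {E F : X.Modules} (φ : E ⟶ F) [IsIso φ] :
    Function.Bijective (ParSh.fibDMap k X I φ) :=
  Function.bijective_iff_has_inverse.mpr ⟨ParSh.fibDMap k X I (inv φ),
    fun x => by rw [← fibDMap_comp, IsIso.hom_inv_id, fibDMap_id],
    fun x => by rw [← fibDMap_comp, IsIso.inv_hom_id, fibDMap_id]⟩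

variable [IsProper (X ↘ Spec (CommRingCat.of k))] [IsIntegral X]

include k in
theorem dim_support (hdim : topologicalKrullDim X ≤ 1) (hD : FGA.IsEffCartier I) :
    topologicalKrullDim (I.support : Set X) ≤ 0 :=
  CurveRR.cartier_dim_le_zero hdim hD

include k in
theorem genericPoint_notMem (hD : FGA.IsEffCartier I) : genericPoint X ∉ I.support :=
  BlowUpLib.notMem_support_of_maximalPt hD fun y hy =>
    (hy.antisymm ((genericPoint_spec X).specializes (Set.mem_univ y))).eq

include k in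
theorem finite_fibD {E : X.Modules} (hE : Coh.IsCoh E) : Module.Finite k (ParSh.fibD X I E) := by
  haveI := CurveRR.isNoetherian_of_proper k X
  exact Groth.Agent.CohFinite.finite_proper k X _ (isCoh_resD I hE) 0

/-- Modules supported in the divisor: no higher cohomology, generic rank zero. -/
theorem of_support (hdim : topologicalKrullDim X ≤ 1) (hD : FGA.IsEffCartier I) {M : X.Modules}
    (h : CohB1.support M ⊆ (I.support : Set X)) :
    (∀ i, 1 ≤ i → Subsingleton (Coh.HH X M i)) ∧ Curv2.euler k X M = CurveRR.h k M 0 ∧ W7Slope.grk M = 0 := by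
  haveI := CurveRR.isNoetherian_of_proper k X
  have hv : ∀ i, 1 ≤ i → Subsingleton (Coh.HH X M i) := fun i hi =>
    SuppZero.subsingleton_hh_of_supported I.support.isClosed (dim_support I k hdim hD) M
      (fun x hx hx' => hx (h hx')) i hi
  refine ⟨hv, CurveRR.euler_eq_h0 hv, ?_⟩
  haveI := CurveRR.subsingleton_stalk (G := M) fun h' => genericPoint_notMem I k hD (h h')
  exact Module.finrank_zero_of_subsingleton

/-- `χ(E|_D) = n deg D`. -/
theorem euler_resD (hdim : topologicalKrullDim X ≤ 1) (hD : FGA.IsEffCartier I) {n : ℕ} {E : X.Modules}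
    (hE : FlatMod.IsFinLocFreeOfRank n E) :
    Curv2.euler k X (ParSh.resD I E) = n * Curv2.euler k X (ClSub.quotMod I) := by
  haveI := CurveRR.isNoetherian_of_proper k X
  have h := (of_support I k hdim hD (CurveRR.support_quotMod I)).2.2
  rw [ParSh.resD, CurveRR.euler_tensor hdim hE _ (CurveRR.isCoh_idealMod I).2]
  rw [show Module.finrank (X.presheaf.stalk (genericPoint X))
    ((ClSub.quotMod I).presheaf.stalk (genericPoint X)) = 0 from h]
  simp

end Groth.Agent.GPBunLib
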