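import Groth.Agent.GPBunLib.Slope

/-!
Stable implies semistable; integrality helpers for comparing weights.
-/

set_option autoImplicit false
set_option linter.style.haveILetI false
set_option linter.unusedSectionVars false
set_option backward.isDefEq.respectTransparency false

universe u

open CategoryTheory CategoryTheory.Limits AlgebraicGeometry
open Groth.Agent.W7Slope (RegCurve)

noncomputable section

namespace Groth.Agent.GPBunLib

variable {X : Scheme.{u}} {I : X.IdealSheafData} {k : Type u} [Field k] [X.Over (Spec (CommRingCat.of k))]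
  [IsProper (X ↘ Spec (CommRingCat.of k))] [IsIntegral X]

/-- Stable bundles are semistable. -/
theorem ss_of_stable (hX : RegCurve X) (hD : FGA.IsEffCartier I) {α : ℝ} (hα0 : 0 ≤ α) (hα1 : α ≤ 1)
    {E : X.Modules} {n : ℕ} (hE : FlatMod.IsFinLocFreeOfRank n E) (F₁ : Submodule k (ParSh.fibD X I E))
    (h : ParSh.IsGPStable k X I α F₁ n) : ParSh.IsGPSemistable k X I α F₁ n := by
  intro G r i hi hr hG
  haveI := hi
  rcases (rank_le_of_mono k hG hE i).lt_or_eq with hlt | rfl
  · exact (h G r i hi hr hlt hG).le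
  · refine mul_le_mul_of_nonneg_right ?_ (Nat.cast_nonneg _)
    have h1 := gp_mono hX.dim hD hα0 hG hE i (ParSh.gpInduced k X I i F₁) F₁ le_rfl
    have h2 : (Curv2.deg k X G r : ℝ) ≤ (Curv2.deg k X E r : ℝ) := by
      exact_mod_cast (W7Slope.deg_le_of_mono k hX hG hE i).1
    nlinarith [mul_nonneg (sub_nonneg.2 hα1) (sub_nonneg.2 h2)]

/-- The weight bound. -/
theorem weight_bound {d n : ℕ} (hd : 0 < d) (hn : 2 ≤ n) {α : ℝ}
    (hα : 1 - 1 / ((d : ℝ) * (n : ℝ) * ((n : ℝ) - 1)) < α) :
    (1 - α) * ((d : ℝ) * (n : ℝ) * ((n : ℝ) - 1)) < 1 := by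
  have h1 : (2 : ℝ) ≤ n := by exact_mod_cast hn
  have h2 : (0 : ℝ) < d := by exact_mod_cast hd
  have h3 : (0 : ℝ) < (d : ℝ) * (n : ℝ) * ((n : ℝ) - 1) :=
    mul_pos (mul_pos h2 (by linarith)) (by linarith)
  rw [← lt_div_iff₀ h3]
  linarith

end Groth.Agent.GPBunLib
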