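import Groth.Agent.GPBunLib.Basic

/-!
The kernel of `H⁰(φ|_D)`: bounded by the degree defect of a monomorphism; exactness for bundle sequences.
-/

set_option autoImplicit false
set_option linter.style.haveILetI false
set_option linter.unusedSectionVars false
set_option backward.isDefEq.respectTransparency false

universe u

open CategoryTheory CategoryTheory.Limits AlgebraicGeometry TopologicalSpace Opposite
open Groth.Agent.CohFinite (hhMap)
open Groth.Agent.W7Slope (grk cdeg)

noncomputable section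

namespace Groth.Agent.GPBunLib

variable {X : Scheme.{u}} (I : X.IdealSheafData) (k : Type u) [Field k] [X.Over (Spec (CommRingCat.of k))]
  [IsProper (X ↘ Spec (CommRingCat.of k))] [IsIntegral X]

/-- `E(-D)` as a kernel. -/
abbrev negD (E : X.Modules) : X.Modules := kernel (qD I E)

theorem negD_facts (hdim : topologicalKrullDim X ≤ 1) (hD : FGA.IsEffCartier I) {n : ℕ} {E : X.Modules}
    (hE : FlatMod.IsFinLocFreeOfRank n E) :
    Coh.IsCoh (negD I E) ∧ grk (negD I E) = n ∧
      Curv2.euler k X (negD I E) = Curv2.euler k X E - n * Curv2.euler k X (ClSub.quotMod I) := by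
  haveI := CurveRR.isNoetherian_of_proper k X
  haveI : Epi (qD I E) := (shortExact_D I hE).epi_g
  have hc := CurveRR.isCoh_of_rank hE
  have hK := W7Slope.isCoh_kernel k hc (isCoh_resD I hc) (qD I E)
  have hS := CurveRR.shortExact_ker (qD I E)
  refine ⟨hK, ?_, ?_⟩
  · have h := W7Slope.grk_add hS hc
    change grk E = grk (kernel (qD I E)) + grk (ParSh.resD I E) at h
    rw [W7Slope.grk_of_rank hE, (of_support I k hdim hD (support_resD I E)).2.2, add_zero] at h
    exact h.symm
  · have h := CurveRR.euler_add (k := k) hS hK hc (isCoh_resD I hc)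
    change Curv2.euler k X E = Curv2.euler k X (kernel (qD I E)) + Curv2.euler k X (ParSh.resD I E) at h
    rw [euler_resD I k hdim hD hE] at h
    linarith

theorem finrank_fibD (hdim : topologicalKrullDim X ≤ 1) (hD : FGA.IsEffCartier I) {n : ℕ} {E : X.Modules}
    (hE : FlatMod.IsFinLocFreeOfRank n E) :
    (Module.finrank k (ParSh.fibD X I E) : ℤ) = n * Curv2.euler k X (ClSub.quotMod I) := by
  rw [← euler_resD I k hdim hD hE, (of_support I k hdim hD (support_resD I E)).2.1]

/-- The dimension of the kernel of `H⁰(φ|_D)` through the preimage of the twisted target. -/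
theorem ker_fib (hdim : topologicalKrullDim X ≤ 1) (hD : FGA.IsEffCartier I) {G E : X.Modules} {n : ℕ}
    (hG : FlatMod.IsFinLocFreeOfRank n G) (hE : Coh.IsCoh E) (φ : G ⟶ E) :
    ∃ (P : X.Modules) (ι : P ⟶ G), Mono ι ∧ Coh.IsCoh P ∧ grk P = n ∧ ι ≫ φ ≫ qD I E = 0 ∧
      (Module.finrank k (LinearMap.ker (ParSh.fibDMap k X I φ)) : ℤ) =
        Curv2.euler k X P - Curv2.euler k X G + n * Curv2.euler k X (ClSub.quotMod I) := by
  haveI := CurveRR.isNoetherian_of_proper k X
  haveI : Epi (qD I G) := (shortExact_D I hG).epi_g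
  let φD := ParSh.resDMap I φ
  let p := Abelian.factorThruImage φD
  let i := Abelian.image.ι φD
  have hfac : p ≫ i = φD := Abelian.image.fac φD
  haveI : Mono i := inferInstance
  haveI : Epi p := inferInstance
  haveI : Epi (qD I G ≫ p) := epi_comp _ _
  have hGc := CurveRR.isCoh_of_rank hG
  have hGD := isCoh_resD I hGc
  have hED := isCoh_resD I hE
  have hIm : Coh.IsCoh (Abelian.image φD) :=
    W7Slope.isCoh_kernel k hED (W7Slope.isCoh_cokernel k hGD hED φD) _
  have hP : Coh.IsCoh (kernel (qD I G ≫ p)) := W7Slope.isCoh_kernel k hGc hIm _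
  have hK : Coh.IsCoh (kernel p) := W7Slope.isCoh_kernel k hGD hIm _
  have hImS : CohB1.support (Abelian.image φD) ⊆ (I.support : Set X) :=
    (ParHilbLib.support_of_mono i).trans (support_resD I E)
  have hKS : CohB1.support (kernel p) ⊆ (I.support : Set X) :=
    (ParHilbLib.support_of_mono (kernel.ι p)).trans (support_resD I G)
  have hS := CurveRR.shortExact_ker (qD I G ≫ p)
  have hT := CurveRR.shortExact_ker p
  refine ⟨kernel (qD I G ≫ p), kernel.ι _, inferInstance, hP, ?_, ?_, ?_⟩
  · have h := W7Slope.grk_add hS hGc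
    change grk G = grk (kernel (qD I G ≫ p)) + grk (Abelian.image φD) at h
    rw [W7Slope.grk_of_rank hG, (of_support I k hdim hD hImS).2.2, add_zero] at h
    exact h.symm
  · rw [← qD_natural I φ, show ParSh.resDMap I φ = p ≫ i from hfac.symm, ← Category.assoc (qD I G) p i,
      ← Category.assoc, kernel.condition, zero_comp]
  · have h := CurveRR.euler_add (k := k) hS hP hGc hIm
    have h' := CurveRR.euler_add (k := k) hT hK hGD hIm
    change Curv2.euler k X G =
      Curv2.euler k X (kernel (qD I G ≫ p)) + Curv2.euler k X (Abelian.image φD) at h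
    change Curv2.euler k X (ParSh.resD I G) =
      Curv2.euler k X (kernel p) + Curv2.euler k X (Abelian.image φD) at h'
    rw [euler_resD I k hdim hD hG, (of_support I k hdim hD hKS).2.1] at h'
    have hinj : Function.Injective (hhMap k i 0) :=
      CurveRR.injective_f (S := ShortComplex.mk i (cokernel.π i) (cokernel.condition i))
        { exact := ShortComplex.exact_cokernel i }
    have hker : LinearMap.ker (ParSh.fibDMap k X I φ) = LinearMap.range (hhMap k (kernel.ι p) 0) := by
      rw [CurveRR.range_f_eq_ker_g (k := k) hT 0]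
      ext x
      rw [LinearMap.mem_ker, LinearMap.mem_ker, fibDMap_eq, show ParSh.resDMap I φ = p ≫ i from hfac.symm,
        Groth.Agent.CohFinite.hhMap_comp]
      exact map_eq_zero_iff _ hinj
    rw [hker, LinearMap.finrank_range_of_inj (CurveRR.injective_f (k := k) hT)]
    change ((CurveRR.h k (kernel p) 0 : ℕ) : ℤ) = _
    linarith

/-- The kernel bound for a monomorphism of equal rank. -/
theorem finrank_ker_le (hdim : topologicalKrullDim X ≤ 1) (hD : FGA.IsEffCartier I) {G E : X.Modules} {n : ℕ}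
    (hG : FlatMod.IsFinLocFreeOfRank n G) (hE : FlatMod.IsFinLocFreeOfRank n E) (j : G ⟶ E) [Mono j] :
    (Module.finrank k (LinearMap.ker (ParSh.fibDMap k X I j)) : ℤ) ≤
      Curv2.deg k X E n - Curv2.deg k X G n := by
  obtain ⟨P, ι, hι, hP, hr, h0, hf⟩ := ker_fib I k hdim hD hG (CurveRR.isCoh_of_rank hE) j
  obtain ⟨hc, hr', he⟩ := negD_facts I k hdim hD hE
  let l := kernel.lift (qD I E) (ι ≫ j) (by rw [Category.assoc, h0])
  haveI : Mono (ι ≫ j) := mono_comp _ _
  haveI : Mono l := mono_of_mono_fac (kernel.lift_ι (qD I E) (ι ≫ j) (by rw [Category.assoc, h0]))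
  have h := (W7Slope.cdeg_le_of_mono (k := k) hdim l hP hc (hr.trans hr'.symm)).1
  rw [cdeg, cdeg, hr, hr', he] at h
  simp only [Curv2.deg]
  linarith

variable {I k}

/-- Short exact sequences of bundles stay short exact on `H⁰(-|_D)`. -/
theorem fib_exact (hdim : topologicalKrullDim X ≤ 1) (hD : FGA.IsEffCartier I) {S : ShortComplex X.Modules}
    (hS : S.ShortExact) {m n t : ℕ} (h₁ : FlatMod.IsFinLocFreeOfRank m S.X₁)
    (h₂ : FlatMod.IsFinLocFreeOfRank n S.X₂) (h₃ : FlatMod.IsFinLocFreeOfRank t S.X₃) :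
    Function.Injective (ParSh.fibDMap k X I S.f) ∧ Function.Surjective (ParSh.fibDMap k X I S.g) ∧
      LinearMap.range (ParSh.fibDMap k X I S.f) = LinearMap.ker (ParSh.fibDMap k X I S.g) := by
  haveI := CurveRR.isNoetherian_of_proper k X
  haveI := hS.mono_f
  haveI := hS.epi_g
  have hc₁ := CurveRR.isCoh_of_rank h₁
  have hc₂ := CurveRR.isCoh_of_rank h₂
  have hc₃ := CurveRR.isCoh_of_rank h₃
  haveI := (shortExact_D I h₃).epi_g
  haveI : Epi (qD I S.X₃) := (shortExact_D I h₃).epi_g
  haveI : Epi (qD I S.X₂ ≫ ParSh.resDMap I S.g) := by rw [qD_natural I S.g]; exact epi_comp _ _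
  haveI : Epi (ParSh.resDMap I S.g) := epi_of_epi (qD I S.X₂) _
  have hrank := W7Slope.grk_add hS hc₂
  rw [W7Slope.grk_of_rank h₁, W7Slope.grk_of_rank h₂, W7Slope.grk_of_rank h₃] at hrank
  -- surjectivity
  have hsurj : Function.Surjective (ParSh.fibDMap k X I S.g) := fun x => by
    have hT := CurveRR.shortExact_ker (ParSh.resDMap I S.g)
    haveI := (of_support I k hdim hD ((ParHilbLib.support_of_mono (kernel.ι (ParSh.resDMap I S.g))).trans
      (support_resD I S.X₂))).1 1 le_rfl
    have hx : x ∈ LinearMap.range (hhMap k (ParSh.resDMap I S.g) 0) := by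
      have e := CurveRR.range_g_eq_ker_δ (k := k) hT 0
      rw [e, LinearMap.mem_ker]
      exact Subsingleton.elim _ _
    exact hx
  -- injectivity
  have hinj : Function.Injective (ParSh.fibDMap k X I S.f) := by
    obtain ⟨P, ι, hι, hP, hr, h0, hf⟩ := ker_fib I k hdim hD h₁ hc₂ S.f
    obtain ⟨hcE, hrE, heE⟩ := negD_facts I k hdim hD h₂
    obtain ⟨hcQ, hrQ, heQ⟩ := negD_facts I k hdim hD h₃
    let r : negD I S.X₂ ⟶ negD I S.X₃ := kernel.lift _ (kernel.ι (qD I S.X₂) ≫ S.g) (by
      rw [Category.assoc, ← qD_natural I S.g, ← Category.assoc, kernel.condition, zero_comp])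
    have hr_ι : r ≫ kernel.ι (qD I S.X₃) = kernel.ι (qD I S.X₂) ≫ S.g := kernel.lift_ι _ _ _
    let a₂ := kernel.lift (qD I S.X₂) (ιD I S.X₂) (ιD_qD I S.X₂)
    let a₃ := kernel.lift (qD I S.X₃) (ιD I S.X₃) (ιD_qD I S.X₃)
    have ha₂ : a₂ ≫ kernel.ι (qD I S.X₂) = ιD I S.X₂ := kernel.lift_ι _ _ _
    have ha₃ : a₃ ≫ kernel.ι (qD I S.X₃) = ιD I S.X₃ := kernel.lift_ι _ _ _
    haveI : Epi a₃ := (shortExact_D I h₃).exact.epi_kernelLift
    haveI : Epi (KoszTw.tensorMap (𝟙 (ClSub.idealMod I)) S.g) := by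
      rw [← KoszTw.tensorBi_obj_map]
      exact ResDesc.epi_tensorMap S.g
    have hsq : KoszTw.tensorMap (𝟙 (ClSub.idealMod I)) S.g ≫ a₃ = a₂ ≫ r := by
      rw [← cancel_mono (kernel.ι (qD I S.X₃)), Category.assoc, ha₃, Category.assoc, hr_ι,
        ← Category.assoc, ha₂, ιD_natural]
    haveI : Epi (a₂ ≫ r) := by rw [← hsq]; exact epi_comp _ _
    haveI : Epi r := epi_of_epi a₂ r
    have hL : Coh.IsCoh (kernel r) := W7Slope.isCoh_kernel k hcE hcQ r
    have hTr := CurveRR.shortExact_ker r
    have hgL := W7Slope.grk_add hTr hcE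
    have heL := CurveRR.euler_add (k := k) hTr hL hcE hcQ
    change grk (negD I S.X₂) = grk (kernel r) + grk (negD I S.X₃) at hgL
    change Curv2.euler k X (negD I S.X₂) = Curv2.euler k X (kernel r) + Curv2.euler k X (negD I S.X₃) at heL
    rw [hrE, hrQ] at hgL
    rw [heE, heQ, CurveRR.euler_add (k := k) hS hc₁ hc₂ hc₃] at heL
    let l₀ : P ⟶ negD I S.X₂ := kernel.lift _ (ι ≫ S.f) (by rw [Category.assoc, h0])
    have hl₀ : l₀ ≫ kernel.ι (qD I S.X₂) = ι ≫ S.f := kernel.lift_ι _ _ _
    let l : P ⟶ kernel r := kernel.lift r l₀ (by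
      rw [← cancel_mono (kernel.ι (qD I S.X₃)), Category.assoc, hr_ι, ← Category.assoc, hl₀, Category.assoc,
        S.zero, comp_zero, zero_comp])
    have hl : l ≫ kernel.ι r ≫ kernel.ι (qD I S.X₂) = ι ≫ S.f := by
      rw [← Category.assoc, kernel.lift_ι, hl₀]
    haveI : Mono (ι ≫ S.f) := mono_comp _ _
    haveI : Mono l := mono_of_mono_fac hl
    have h := (W7Slope.cdeg_le_of_mono (k := k) hdim l hP hL (by omega)).1
    rw [cdeg, cdeg, hr, show grk (kernel r) = m by omega] at h
    haveI := finite_fibD I k hc₁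
    rw [← LinearMap.ker_eq_bot, ← Submodule.finrank_eq_zero (R := k)]
    have hz : (Module.finrank k (LinearMap.ker (ParSh.fibDMap k X I S.f)) : ℤ) ≤ 0 := by
      rw [hf]
      have hn : (n : ℤ) = m + t := by exact_mod_cast hrank
      rw [hn] at heL
      linarith
    omega
  refine ⟨hinj, hsurj, ?_⟩
  haveI := finite_fibD I k hc₂
  refine Submodule.eq_of_le_of_finrank_eq ?_ ?_
  · rintro _ ⟨x, rfl⟩
    rw [LinearMap.mem_ker, ← fibDMap_comp, S.zero, fibDMap_zero]
  · have h := (ParSh.fibDMap k X I S.g).finrank_range_add_finrank_ker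
    rw [LinearMap.range_eq_top.2 hsurj, finrank_top] at h
    rw [LinearMap.finrank_range_of_inj hinj]
    have e₁ := finrank_fibD I k hdim hD h₁
    have e₂ := finrank_fibD I k hdim hD h₂
    have e₃ := finrank_fibD I k hdim hD h₃
    have hn : (n : ℤ) = m + t := by exact_mod_cast hrank
    rw [hn, add_mul, ← e₁, ← e₃] at e₂
    omega

end Groth.Agent.GPBunLib
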