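import Groth.Agent.GPBunLib.Basic
import Groth.Agent.W7Slope.Scalar

/-!
Linearity of `H⁰(φ|_D)` and scalar endomorphisms.
-/

set_option autoImplicit false
set_option linter.style.haveILetI false
set_option linter.unusedSectionVars false
set_option backward.isDefEq.respectTransparency false
set_option backward.isDefEq.respectTransparency.types false

universe u

open CategoryTheory CategoryTheory.Limits AlgebraicGeometry TopologicalSpace Opposite
open Groth.Agent.W7Slope (scal stalk_scal toResidue_surjective)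
open Groth.Agent.WeakAssLib (mgerm stalkHom)
open TMul (tm)

noncomputable section

namespace Groth.Agent.GPBunLib

variable {X : Scheme.{u}} (I : X.IdealSheafData)

theorem resDMap_add {E F : X.Modules} (φ ψ : E ⟶ F) :
    ParSh.resDMap I (φ + ψ) = ParSh.resDMap I φ + ParSh.resDMap I ψ :=
  TMul.hom_ext fun U m n => by
    show (ParSh.resDMap I (φ + ψ)).app U (tm m n) =
      (ParSh.resDMap I φ).app U (tm m n) + (ParSh.resDMap I ψ).app U (tm m n)
    rw [resDMap_tm, resDMap_tm, resDMap_tm, ← TMul.tm_add]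
    rfl

theorem resDMap_scal (E : X.Modules) (r : Γ(X, ⊤)) :
    ParSh.resDMap I (scal E r) = scal (ParSh.resD I E) r :=
  TMul.hom_ext fun U m n => by
    refine (resDMap_tm I (scal E r) m n).trans ?_
    exact TMul.smul_tm _ m n

variable (k : Type u) [Field k] [X.Over (Spec (CommRingCat.of k))]

theorem fibDMap_add {E F : X.Modules} (φ ψ : E ⟶ F) (x : ParSh.fibD X I E) :
    ParSh.fibDMap k X I (φ + ψ) x = ParSh.fibDMap k X I φ x + ParSh.fibDMap k X I ψ x := by
  rw [fibDMap_eq, resDMap_add]
  exact W7Slope.hhMap_add _ _ 0 x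

theorem fibDMap_sub {E F : X.Modules} (φ ψ : E ⟶ F) (x : ParSh.fibD X I E) :
    ParSh.fibDMap k X I (φ - ψ) x = ParSh.fibDMap k X I φ x - ParSh.fibDMap k X I ψ x := by
  rw [eq_sub_iff_add_eq, ← fibDMap_add, sub_add_cancel]

theorem fibDMap_scal (E : X.Modules) (c : k) (x : ParSh.fibD X I E) :
    ParSh.fibDMap k X I (scal E (Coh.toGlobal (X ↘ Spec (CommRingCat.of k)) c)) x = c • x := by
  rw [fibDMap_eq, resDMap_scal]
  exact W7Slope.hhMap_scal _ c 0 x

variable {k} [IsAlgClosed k] [IsProper (X ↘ Spec (CommRingCat.of k))]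

/-- An endomorphism whose nonzero translates by scalars are invertible is a scalar. -/
theorem exists_scalar' [IsIntegral X] {E : X.Modules} {r : ℕ} (hr : 0 < r)
    (hE : FlatMod.IsFinLocFreeOfRank r E) (φ : E ⟶ E)
    (hiso : ∀ c : k, scal E (Coh.toGlobal (X ↘ Spec (CommRingCat.of k)) c) - φ ≠ 0 →
      IsIso (scal E (Coh.toGlobal (X ↘ Spec (CommRingCat.of k)) c) - φ)) :
    ∃ c : k, (SheafOfModules.toSheaf X.ringCatSheaf).map φ =
      Coh.smulAb E (Coh.toGlobal (X ↘ Spec (CommRingCat.of k)) c) := by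
  haveI := CurveRR.isNoetherian_of_proper k X
  obtain ⟨x, -, hx⟩ := IsClosed.exists_closed_singleton (isClosed_univ (X := X)) Set.univ_nonempty
  obtain ⟨W, hxW, ⟨i⟩⟩ := hE x
  obtain ⟨b⟩ := LocFree.exists_basis_stalk i (CurveRR.isCoh_of_rank hE).1 hxW
  haveI := Module.Free.of_basis b
  haveI := Module.Finite.of_basis b
  let f : E.presheaf.stalk x →ₗ[X.presheaf.stalk x] E.presheaf.stalk x :=
    ((DerSch.stalkFunctor X x).map φ).hom
  haveI : IsAlgClosed (X.residueField x) :=
    IsAlgClosed.of_ringEquiv k _ (residueFieldIsoBase (X ↘ Spec (CommRingCat.of k)) x hx).commRingCatIsoToRingEquiv.symm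
  have hdeg : (f.charpoly.map (X.residue x).hom).degree ≠ 0 := by
    rw [f.charpoly_monic.degree_map]
    intro h
    have h' := Polynomial.natDegree_eq_zero_iff_degree_le_zero.2 h.le
    rw [LinearMap.charpoly_natDegree, Module.finrank_eq_card_basis b, Fintype.card_ulift, Fintype.card_fin] at h'
    omega
  obtain ⟨a, ha⟩ := IsAlgClosed.exists_root _ hdeg
  obtain ⟨c, rfl⟩ := toResidue_surjective (k := k) x hx a
  refine ⟨c, ?_⟩
  by_contra hne
  let t := (X.presheaf.germ ⊤ x trivial).hom (Coh.toGlobal (X ↘ Spec (CommRingCat.of k)) c)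
  have hψ : scal E (Coh.toGlobal (X ↘ Spec (CommRingCat.of k)) c) - φ ≠ 0 := fun h => hne (by
    rw [← sub_eq_zero.1 h]; rfl)
  haveI := hiso c hψ
  have hu : IsUnit (t • (1 : Module.End (X.presheaf.stalk x) (E.presheaf.stalk x)) - f).det := by
    let e := ((DerSch.stalkFunctor X x).mapIso
      (asIso (scal E (Coh.toGlobal (X ↘ Spec (CommRingCat.of k)) c) - φ))).toLinearEquiv
    have he : e.toLinearMap = t • (1 : Module.End (X.presheaf.stalk x) (E.presheaf.stalk x)) - f := by
      refine LinearMap.ext fun u => ?_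
      show ((DerSch.stalkFunctor X x).map (scal E _ - φ)).hom u = t • (show E.presheaf.stalk x from u) - f u
      rw [Functor.map_sub, ModuleCat.hom_sub, LinearMap.sub_apply]
      congr 1
      exact stalk_scal E _ x u
    rw [← he]
    exact LinearEquiv.isUnit_det' e
  rw [← Algebra.algebraMap_eq_smul_one, ← LinearMap.eval_charpoly] at hu
  have h0 := hu.map (X.residue x).hom
  rw [← Polynomial.eval_map_apply] at h0
  exact h0.ne_zero ha

end Groth.Agent.GPBunLib
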