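import Groth.Agent.GPBunLib.Ker

/-!
Degrees of generalised parabolic bundles under monomorphisms and image factorisations.
-/

set_option autoImplicit false
set_option linter.style.haveILetI false
set_option linter.unusedSectionVars false
set_option backward.isDefEq.respectTransparency false

universe u

open CategoryTheory CategoryTheory.Limits AlgebraicGeometry TopologicalSpace Opposite
open Groth.Agent.W7Slope (grk cdeg RegCurve)

noncomputable section

namespace Groth.Agent.GPBunLib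

theorem finrank_eq_map_add {k V W : Type*} [Field k] [AddCommGroup V] [Module k V] [AddCommGroup W] [Module k W]
    [Module.Finite k V] (f : V →ₗ[k] W) (S : Submodule k V) :
    Module.finrank k S = Module.finrank k (S.map f) + Module.finrank k (S ⊓ LinearMap.ker f : Submodule k V) := by
  have h := (f.domRestrict S).finrank_range_add_finrank_ker
  rw [LinearMap.range_domRestrict, LinearMap.ker_domRestrict] at h
  rw [← h, (S.equivSubtypeMap (LinearMap.ker f |>.comap S.subtype)).finrank_eq]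
  congr 1
  rw [Submodule.map_comap_subtype]

variable {X : Scheme.{u}} {I : X.IdealSheafData} {k : Type u} [Field k] [X.Over (Spec (CommRingCat.of k))]

theorem gpDeg_eq (α : ℝ) (E : X.Modules) (F₁ : Submodule k (ParSh.fibD X I E)) (r : ℕ) :
    ParSh.gpDeg k X α E F₁ r = (Curv2.deg k X E r : ℝ) + α * (Module.finrank k F₁ : ℝ) := rfl

theorem induced_comp {G G' E : X.Modules} (l : G ⟶ G') (i : G' ⟶ E) (F₁ : Submodule k (ParSh.fibD X I E)) :
    ParSh.gpInduced k X I (l ≫ i) F₁ = (ParSh.gpInduced k X I i F₁).comap (ParSh.fibDMap k X I l) := by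
  ext x
  show ParSh.fibDMap k X I (l ≫ i) x ∈ F₁ ↔ ParSh.fibDMap k X I i (ParSh.fibDMap k X I l x) ∈ F₁
  rw [fibDMap_comp]

variable [IsProper (X ↘ Spec (CommRingCat.of k))] [IsIntegral X]

theorem gp_le_of_le {α : ℝ} (hα0 : 0 ≤ α) {E : X.Modules} (hE : Coh.IsCoh E) (r : ℕ)
    {S T : Submodule k (ParSh.fibD X I E)} (h : S ≤ T) :
    ParSh.gpDeg k X α E S r ≤ ParSh.gpDeg k X α E T r := by
  haveI := finite_fibD I k hE
  rw [gpDeg_eq, gpDeg_eq]
  gcongr
  exact_mod_cast Submodule.finrank_mono h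

variable (I k) in
theorem finrank_sub_le (hdim : topologicalKrullDim X ≤ 1) (hD : FGA.IsEffCartier I) {n : ℕ} {E : X.Modules}
    (hE : FlatMod.IsFinLocFreeOfRank n E) (F₁ : Submodule k (ParSh.fibD X I E)) :
    (Module.finrank k F₁ : ℤ) ≤ n * Curv2.euler k X (ClSub.quotMod I) := by
  haveI := finite_fibD I k (CurveRR.isCoh_of_rank hE)
  rw [← finrank_fibD I k hdim hD hE]
  exact_mod_cast Submodule.finrank_le F₁

/-- The preimage along a monomorphism of equal rank gains at most the degree defect. -/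
theorem finrank_comap_le (hdim : topologicalKrullDim X ≤ 1) (hD : FGA.IsEffCartier I) {G E : X.Modules} {n : ℕ}
    (hG : FlatMod.IsFinLocFreeOfRank n G) (hE : FlatMod.IsFinLocFreeOfRank n E) (j : G ⟶ E) [Mono j]
    (F₁ : Submodule k (ParSh.fibD X I E)) :
    (Module.finrank k (F₁.comap (ParSh.fibDMap k X I j)) : ℤ) ≤
      Module.finrank k F₁ + (Curv2.deg k X E n - Curv2.deg k X G n) := by
  haveI := finite_fibD I k (CurveRR.isCoh_of_rank hG)
  haveI := finite_fibD I k (CurveRR.isCoh_of_rank hE)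
  have h := finrank_eq_map_add (ParSh.fibDMap k X I j) (F₁.comap (ParSh.fibDMap k X I j))
  have h1 : Module.finrank k ((F₁.comap (ParSh.fibDMap k X I j)).map (ParSh.fibDMap k X I j)) ≤
      Module.finrank k F₁ := Submodule.finrank_mono (Submodule.map_comap_le _ _)
  have h2 : Module.finrank k (F₁.comap (ParSh.fibDMap k X I j) ⊓ LinearMap.ker (ParSh.fibDMap k X I j) :
      Submodule k (ParSh.fibD X I G)) ≤ Module.finrank k (LinearMap.ker (ParSh.fibDMap k X I j)) :=
    Submodule.finrank_mono inf_le_right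
  have h3 := finrank_ker_le I k hdim hD hG hE j
  omega

/-- A parabolic monomorphism of equal rank. -/
theorem gp_mono (hdim : topologicalKrullDim X ≤ 1) (hD : FGA.IsEffCartier I) {α : ℝ} (hα0 : 0 ≤ α)
    {G E : X.Modules} {n : ℕ} (hG : FlatMod.IsFinLocFreeOfRank n G) (hE : FlatMod.IsFinLocFreeOfRank n E)
    (j : G ⟶ E) [Mono j] (F₁ : Submodule k (ParSh.fibD X I G)) (F₁' : Submodule k (ParSh.fibD X I E))
    (hj : F₁ ≤ F₁'.comap (ParSh.fibDMap k X I j)) :
    ParSh.gpDeg k X α G F₁ n + (1 - α) * ((Curv2.deg k X E n : ℝ) - (Curv2.deg k X G n : ℝ)) ≤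
      ParSh.gpDeg k X α E F₁' n := by
  haveI := finite_fibD I k (CurveRR.isCoh_of_rank hG)
  have h := finrank_comap_le hdim hD hG hE j F₁'
  have h' := Submodule.finrank_mono hj
  have h'' : (Module.finrank k F₁ : ℝ) ≤
      (Module.finrank k F₁' : ℝ) + ((Curv2.deg k X E n : ℝ) - (Curv2.deg k X G n : ℝ)) := by
    exact_mod_cast (show (Module.finrank k F₁ : ℤ) ≤
      Module.finrank k F₁' + (Curv2.deg k X E n - Curv2.deg k X G n) by omega)
  rw [gpDeg_eq, gpDeg_eq]
  nlinarith [mul_le_mul_of_nonneg_left h'' hα0]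

variable (k) in
include k in
theorem rank_le_of_mono {G E : X.Modules} {r n : ℕ} (hG : FlatMod.IsFinLocFreeOfRank r G)
    (hE : FlatMod.IsFinLocFreeOfRank n E) (j : G ⟶ E) [Mono j] : r ≤ n := by
  haveI := CurveRR.isNoetherian_of_proper k X
  have h := W7Slope.grk_le_of_mono k j (CurveRR.isCoh_of_rank hE)
  rwa [W7Slope.grk_of_rank hG, W7Slope.grk_of_rank hE] at h

/-- Semistability for subbundles of any rank, zero included. -/
theorem gp_sub_le (hdim : topologicalKrullDim X ≤ 1) (hD : FGA.IsEffCartier I) {α : ℝ} {E G : X.Modules}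
    {n r : ℕ} (F₁ : Submodule k (ParSh.fibD X I E)) (hss : ParSh.IsGPSemistable k X I α F₁ n) (i : G ⟶ E)
    [Mono i] (hG : FlatMod.IsFinLocFreeOfRank r G) :
    ParSh.gpDeg k X α G (ParSh.gpInduced k X I i F₁) r * (n : ℝ) ≤ ParSh.gpDeg k X α E F₁ n * (r : ℝ) := by
  rcases Nat.eq_zero_or_pos r with rfl | hr
  · have h := finrank_sub_le I k hdim hD hG (ParSh.gpInduced k X I i F₁)
    have h0 : Module.finrank k (ParSh.gpInduced k X I i F₁) = 0 := by simpa using h
    rw [gpDeg_eq, W7Slope.deg_rank_zero k hG, h0]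
    simp
  · exact hss G r i inferInstance hr hG

/-- The image factorisation of a parabolic homomorphism, with the saturation of the image. -/
theorem gp_image (hX : RegCurve X) (hD : FGA.IsEffCartier I) {α : ℝ} (hα0 : 0 ≤ α) {E F : X.Modules}
    {n m : ℕ} (hE : FlatMod.IsFinLocFreeOfRank n E) (hF : FlatMod.IsFinLocFreeOfRank m F)
    (F₁ : Submodule k (ParSh.fibD X I E)) (F₁' : Submodule k (ParSh.fibD X I F)) (φ : E ⟶ F)
    (hφ : ParSh.IsGPHom k X I F₁ F₁' φ) :
    ∃ (K A A' Q : X.Modules) (s t : ℕ) (κ : K ⟶ E) (p : E ⟶ A) (l : A ⟶ A') (i : A' ⟶ F) (q : F ⟶ Q)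
      (w : i ≫ q = 0) (F₁A : Submodule k (ParSh.fibD X I A)),
      Mono κ ∧ Epi p ∧ Mono l ∧ (ShortComplex.mk i q w).ShortExact ∧ p ≫ l ≫ i = φ ∧
      FlatMod.IsFinLocFreeOfRank s K ∧ FlatMod.IsFinLocFreeOfRank t A ∧ FlatMod.IsFinLocFreeOfRank t A' ∧
      FlatMod.IsFinLocFreeOfRank (grk Q) Q ∧ n = s + t ∧ t ≤ m ∧ (s = 0 → Mono p) ∧ (φ ≠ 0 → 0 < t) ∧
      ParSh.gpDeg k X α E F₁ n ≤
        ParSh.gpDeg k X α K (ParSh.gpInduced k X I κ F₁) s + ParSh.gpDeg k X α A F₁A t ∧
      ParSh.gpDeg k X α A F₁A t + (1 - α) * ((Curv2.deg k X A' t : ℝ) - (Curv2.deg k X A t : ℝ)) ≤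
        ParSh.gpDeg k X α A' (ParSh.gpInduced k X I i F₁') t ∧
      Curv2.deg k X A t ≤ Curv2.deg k X A' t ∧ (Curv2.deg k X A t = Curv2.deg k X A' t → IsIso l) := by
  haveI := CurveRR.isNoetherian_of_proper k X
  obtain ⟨A, p, j, hp, hj, hfac, hA, -, -, -, -, hne⟩ := W7Slope.exists_image k hX hE hF φ
  obtain ⟨A', Q, i, l, q, w, hSQ, hli, hl, hA', hQ, hm, hle, heq, -⟩ :=
    W7Slope.exists_saturation k hX hF (CurveRR.isCoh_of_rank hA) j
  have hEc := CurveRR.isCoh_of_rank hE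
  have hAc := CurveRR.isCoh_of_rank hA
  have hKc := W7Slope.isCoh_kernel k hEc hAc p
  have hK := W7Slope.isFinLocFree_sub k hX (kernel.ι p) hKc hE
  have hS := CurveRR.shortExact_ker p
  have hg := W7Slope.grk_add hS hEc
  have hd := W7Slope.cdeg_add (k := k) hS hKc hEc hAc
  change grk E = grk (kernel p) + grk A at hg
  change cdeg k E = cdeg k (kernel p) + cdeg k A at hd
  rw [W7Slope.grk_of_rank hE] at hg
  refine ⟨kernel p, A, A', Q, grk (kernel p), grk A, kernel.ι p, p, l, i, q, w,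
    F₁.map (ParSh.fibDMap k X I p), inferInstance, hp, hl, hSQ, by rw [hli, hfac], hK, hA, hA', hQ, hg,
    by omega, ?_, hne, ?_, ?_, ?_, ?_⟩
  · intro h
    rw [h] at hK
    exact Preadditive.mono_of_isZero_kernel p (W7Slope.isZero_of_rank_zero hK)
  · obtain ⟨hinj, -, hex⟩ := fib_exact (k := k) hX.dim hD hS hK hE hA
    haveI := finite_fibD I k hEc
    haveI := finite_fibD I k hKc
    have h := finrank_eq_map_add (ParSh.fibDMap k X I p) F₁
    have h' : Module.finrank k (F₁ ⊓ LinearMap.ker (ParSh.fibDMap k X I p) : Submodule k (ParSh.fibD X I E)) ≤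
        Module.finrank k (ParSh.gpInduced k X I (kernel.ι p) F₁) := by
      refine le_trans (Submodule.finrank_mono ?_)
        (Submodule.finrank_map_le (ParSh.fibDMap k X I (kernel.ι p)) _)
      rintro x ⟨hx₁, hx₂⟩
      change x ∈ LinearMap.ker (ParSh.fibDMap k X I p) at hx₂
      rw [← hex] at hx₂
      obtain ⟨y, rfl⟩ := hx₂
      exact ⟨y, hx₁, rfl⟩
    have h'' : (Module.finrank k F₁ : ℝ) ≤ (Module.finrank k (ParSh.gpInduced k X I (kernel.ι p) F₁) : ℝ) +
        (Module.finrank k (F₁.map (ParSh.fibDMap k X I p)) : ℝ) := by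
      exact_mod_cast (show Module.finrank k F₁ ≤ Module.finrank k (ParSh.gpInduced k X I (kernel.ι p) F₁) +
        Module.finrank k (F₁.map (ParSh.fibDMap k X I p)) by omega)
    rw [gpDeg_eq, gpDeg_eq, gpDeg_eq, W7Slope.deg_eq hE, W7Slope.deg_eq hK, W7Slope.deg_eq hA, hd]
    push_cast
    nlinarith [mul_le_mul_of_nonneg_left h'' hα0]
  · refine gp_mono hX.dim hD hα0 hA hA' l _ _ ?_
    rintro _ ⟨x, hx, rfl⟩
    show ParSh.fibDMap k X I i (ParSh.fibDMap k X I l (ParSh.fibDMap k X I p x)) ∈ F₁'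
    rw [← fibDMap_comp, hli, ← fibDMap_comp, hfac]
    exact hφ ⟨x, hx, rfl⟩
  · rw [W7Slope.deg_eq hA, W7Slope.deg_eq hA']
    exact hle
  · rw [W7Slope.deg_eq hA, W7Slope.deg_eq hA']
    exact heq

end Groth.Agent.GPBunLib
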